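import Mathlib
import Cfsg.Agent.Lib.Zsigmondy
import Cfsg.Agent.Prune
set_option linter.all false
prune_inst 0x7f00000000000000000000000000000000000000000000000000000000000000000000000000000000000000000000000000000000000000000000000000000000000000000000000000000000000000003fffffffffffffffffffffffffffbeffbdffffffff
open scoped Cfsg.Agent.FastGrp

/-!
# Orders of the form `2 ^ a * 3 * 5 * q ^ b` (helper326, for S3270)

`Shape N` : `N = 2 ^ a * 3 * 5 * q ^ b` with `q` a prime. Elementary consequences and the polynomials in `Q` dividing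
the orders of the groups of Lie type.
-/

set_option autoImplicit false

namespace Cfsg.Agent.H326

/-- the shape of the order -/
def Shape (N : ℕ) : Prop := ∃ a b q : ℕ, q.Prime ∧ N = 2 ^ a * 3 * 5 * q ^ b

theorem Shape.three {N : ℕ} (h : Shape N) : 3 ∣ N := by
  obtain ⟨a, b, q, -, rfl⟩ := h
  exact ⟨2 ^ a * 5 * q ^ b, by ring⟩

theorem Shape.five {N : ℕ} (h : Shape N) : 5 ∣ N := by
  obtain ⟨a, b, q, -, rfl⟩ := h
  exact ⟨2 ^ a * 3 * q ^ b, by ring⟩

/-- a prime at least seven determines the shape -/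
theorem Shape.eq_of_prime {N r : ℕ} (h : Shape N) (hr : r.Prime) (h7 : 7 ≤ r) (hd : r ∣ N) :
    ∃ a b : ℕ, N = 2 ^ a * 3 * 5 * r ^ b := by
  obtain ⟨a, b, q, hq, rfl⟩ := h
  rw [hr.dvd_mul, hr.dvd_mul, hr.dvd_mul] at hd
  rcases hd with ((hd | hd) | hd) | hd
  · have := (Nat.prime_dvd_prime_iff_eq hr Nat.prime_two).mp (hr.dvd_of_dvd_pow hd)
    omega
  · have := (Nat.prime_dvd_prime_iff_eq hr Nat.prime_three).mp hd
    omega
  · have := (Nat.prime_dvd_prime_iff_eq hr Nat.prime_five).mp hd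
    omega
  · have := (Nat.prime_dvd_prime_iff_eq hr hq).mp (hr.dvd_of_dvd_pow hd)
    subst this
    exact ⟨a, b, rfl⟩

theorem Shape.c1 {N r s : ℕ} (h : Shape N) (hr : r.Prime) (hs : s.Prime) (hr7 : 7 ≤ r) (hs7 : 7 ≤ s)
    (hrs : r ≠ s) (h1 : r ∣ N) (h2 : s ∣ N) : False := by
  obtain ⟨a, b, rfl⟩ := h.eq_of_prime hr hr7 h1
  rw [hs.dvd_mul, hs.dvd_mul, hs.dvd_mul] at h2
  rcases h2 with ((hd | hd) | hd) | hd
  · have := (Nat.prime_dvd_prime_iff_eq hs Nat.prime_two).mp (hs.dvd_of_dvd_pow hd)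
    omega
  · have := (Nat.prime_dvd_prime_iff_eq hs Nat.prime_three).mp hd
    omega
  · have := (Nat.prime_dvd_prime_iff_eq hs Nat.prime_five).mp hd
    omega
  · have := (Nat.prime_dvd_prime_iff_eq hs hr).mp (hs.dvd_of_dvd_pow hd)
    omega

theorem Shape.c2 {N r : ℕ} (h : Shape N) (hr : r.Prime) (hr7 : 7 ≤ r) (h1 : r ∣ N) (h9 : 9 ∣ N) : False := by
  obtain ⟨a, b, rfl⟩ := h.eq_of_prime hr hr7 h1
  have h2 : 3 ∣ 2 ^ a * 5 * r ^ b := by
    have : 3 * 3 ∣ 3 * (2 ^ a * 5 * r ^ b) := by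
      rw [show 3 * (2 ^ a * 5 * r ^ b) = 2 ^ a * 3 * 5 * r ^ b by ring]
      exact h9
    exact Nat.dvd_of_mul_dvd_mul_left (by norm_num) this
  rw [Nat.prime_three.dvd_mul, Nat.prime_three.dvd_mul] at h2
  rcases h2 with (hd | hd) | hd
  · have := (Nat.prime_dvd_prime_iff_eq Nat.prime_three Nat.prime_two).mp (Nat.prime_three.dvd_of_dvd_pow hd)
    omega
  · omega
  · have := (Nat.prime_dvd_prime_iff_eq Nat.prime_three hr).mp (Nat.prime_three.dvd_of_dvd_pow hd)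
    omega

theorem Shape.c3 {N r : ℕ} (h : Shape N) (hr : r.Prime) (hr7 : 7 ≤ r) (h1 : r ∣ N) (h25 : 25 ∣ N) : False := by
  obtain ⟨a, b, rfl⟩ := h.eq_of_prime hr hr7 h1
  have h2 : 5 ∣ 2 ^ a * 3 * r ^ b := by
    have : 5 * 5 ∣ 5 * (2 ^ a * 3 * r ^ b) := by
      rw [show 5 * (2 ^ a * 3 * r ^ b) = 2 ^ a * 3 * 5 * r ^ b by ring]
      exact h25
    exact Nat.dvd_of_mul_dvd_mul_left (by norm_num) this
  rw [Nat.prime_five.dvd_mul, Nat.prime_five.dvd_mul] at h2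
  rcases h2 with (hd | hd) | hd
  · have := (Nat.prime_dvd_prime_iff_eq Nat.prime_five Nat.prime_two).mp (Nat.prime_five.dvd_of_dvd_pow hd)
    omega
  · omega
  · have := (Nat.prime_dvd_prime_iff_eq Nat.prime_five hr).mp (Nat.prime_five.dvd_of_dvd_pow hd)
    omega

theorem Shape.c4 {N : ℕ} (h : Shape N) (h9 : 9 ∣ N) (h25 : 25 ∣ N) : False := by
  obtain ⟨a, b, q, hq, rfl⟩ := h
  have h2 : 3 ∣ 2 ^ a * 5 * q ^ b := by
    have : 3 * 3 ∣ 3 * (2 ^ a * 5 * q ^ b) := by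
      rw [show 3 * (2 ^ a * 5 * q ^ b) = 2 ^ a * 3 * 5 * q ^ b by ring]
      exact h9
    exact Nat.dvd_of_mul_dvd_mul_left (by norm_num) this
  have h3 : 5 ∣ 2 ^ a * 3 * q ^ b := by
    have : 5 * 5 ∣ 5 * (2 ^ a * 3 * q ^ b) := by
      rw [show 5 * (2 ^ a * 3 * q ^ b) = 2 ^ a * 3 * 5 * q ^ b by ring]
      exact h25
    exact Nat.dvd_of_mul_dvd_mul_left (by norm_num) this
  rw [Nat.prime_three.dvd_mul, Nat.prime_three.dvd_mul] at h2
  rw [Nat.prime_five.dvd_mul, Nat.prime_five.dvd_mul] at h3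
  have h4 : 3 = q := by
    rcases h2 with (hd | hd) | hd
    · have := (Nat.prime_dvd_prime_iff_eq Nat.prime_three Nat.prime_two).mp (Nat.prime_three.dvd_of_dvd_pow hd)
      omega
    · omega
    · exact (Nat.prime_dvd_prime_iff_eq Nat.prime_three hq).mp (Nat.prime_three.dvd_of_dvd_pow hd)
  have h5 : 5 = q := by
    rcases h3 with (hd | hd) | hd
    · have := (Nat.prime_dvd_prime_iff_eq Nat.prime_five Nat.prime_two).mp (Nat.prime_five.dvd_of_dvd_pow hd)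
      omega
    · omega
    · exact (Nat.prime_dvd_prime_iff_eq Nat.prime_five hq).mp (Nat.prime_five.dvd_of_dvd_pow hd)
  omega

/-! ### primes at least seven -/

theorem prime_seven {r : ℕ} (hr : r.Prime) (h2 : r ≠ 2) (h3 : r ≠ 3) (h5 : r ≠ 5) : 7 ≤ r := by
  by_contra h
  have h1 := hr.two_le
  interval_cases r
  · exact h2 rfl
  · exact h3 rfl
  · exact absurd hr (by norm_num)
  · exact h5 rfl
  · exact absurd hr (by norm_num)

theorem exists_seven {n : ℕ} (hn : 1 < n) (h2 : ¬ 2 ∣ n) (h3 : ¬ 3 ∣ n) (h5 : ¬ 5 ∣ n) :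
    ∃ r : ℕ, r.Prime ∧ 7 ≤ r ∧ r ∣ n := by
  have hp := Nat.minFac_prime (n := n) (by omega)
  have hd := Nat.minFac_dvd n
  refine ⟨n.minFac, hp, prime_seven hp ?_ ?_ ?_, hd⟩
  · intro h; rw [h] at hd; exact h2 hd
  · intro h; rw [h] at hd; exact h3 hd
  · intro h; rw [h] at hd; exact h5 hd

/-- `Q² + Q + 1` has a prime divisor at least seven -/
theorem exists_plus {Q : ℕ} (hQ : 2 ≤ Q) : ∃ r : ℕ, r.Prime ∧ 7 ≤ r ∧ r ∣ Q ^ 2 + Q + 1 := by
  have h2 : ¬ 2 ∣ Q ^ 2 + Q + 1 := by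
    have : 2 ∣ Q * (Q + 1) := (Nat.even_mul_succ_self Q).two_dvd
    intro h
    have h1 : Q ^ 2 + Q + 1 = Q * (Q + 1) + 1 := by ring
    rw [h1] at h
    omega
  have h5 : ¬ 5 ∣ Q ^ 2 + Q + 1 := by
    intro h
    have h1 : (Q ^ 2 + Q + 1) % 5 = 0 := Nat.mod_eq_zero_of_dvd h
    have h3 : Q % 5 < 5 := Nat.mod_lt _ (by norm_num)
    rw [Nat.add_mod, Nat.add_mod (Q ^ 2), Nat.pow_mod] at h1
    interval_cases Q % 5 <;> simp at h1
  by_cases h3 : 3 ∣ Q ^ 2 + Q + 1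
  · obtain ⟨k, hk⟩ := h3
    have h9 : ¬ 3 ∣ k := by
      rintro ⟨m, rfl⟩
      have h1 : (Q ^ 2 + Q + 1) % 9 = 0 := by (clear * - hk; omega)
      have h3 : Q % 9 < 9 := Nat.mod_lt _ (by norm_num)
      rw [Nat.add_mod, Nat.add_mod (Q ^ 2), Nat.pow_mod] at h1
      interval_cases Q % 9 <;> simp at h1
    have hk1 : 1 < k := by
      have : 7 ≤ Q ^ 2 + Q + 1 := by nlinarith only [hQ]
      omega
    obtain ⟨r, hr, h7, hd⟩ := exists_seven hk1 (fun h => h2 (hk ▸ Dvd.dvd.mul_left h 3)) h9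
      (fun h => h5 (hk ▸ Dvd.dvd.mul_left h 3))
    exact ⟨r, hr, h7, hk ▸ Dvd.dvd.mul_left hd 3⟩
  · exact exists_seven (by linarith only [hQ, _root_.sq_nonneg (↑Q : ℤ)]) h2 h3 h5

/-- `Q² - Q + 1` has a prime divisor at least seven -/
theorem exists_minus {Q : ℕ} (hQ : 3 ≤ Q) : ∃ r : ℕ, r.Prime ∧ 7 ≤ r ∧ r ∣ Q ^ 2 - Q + 1 := by
  obtain ⟨P, rfl⟩ : ∃ P, Q = P + 1 := ⟨Q - 1, by omega⟩
  have h1 : (P + 1) ^ 2 - (P + 1) + 1 = P ^ 2 + P + 1 := by
    have : (P + 1) ^ 2 = P ^ 2 + P + (P + 1) := by ring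
    omega
  rw [h1]
  exact exists_plus (by omega)

theorem nine_dvd {Q : ℕ} (hQ : 1 ≤ Q) : 9 ∣ Q ^ 2 * (Q ^ 2 - 1) ^ 2 := by
  by_cases h3 : 3 ∣ Q
  · obtain ⟨k, rfl⟩ := h3
    exact ⟨k ^ 2 * ((3 * k) ^ 2 - 1) ^ 2, by ring⟩
  · have h1 : 3 ∣ Q ^ 2 - 1 := by
      have h4 : Q ^ 2 % 3 = 1 := by
        rw [Nat.pow_mod]
        have : Q % 3 = 1 ∨ Q % 3 = 2 := by omega
        rcases this with h | h <;> rw [h]
      have h5 : 1 ≤ Q ^ 2 := Nat.one_le_pow _ _ hQ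
      omega
    obtain ⟨k, hk⟩ := h1
    rw [hk]
    exact ⟨Q ^ 2 * k ^ 2, by ring⟩

theorem dvd_of_four {N r : ℕ} (hr : r.Prime) (h7 : 7 ≤ r) (h : r ∣ 4 * N) : r ∣ N := by
  rcases hr.dvd_mul.mp h with h | h
  · have := Nat.le_of_dvd (by norm_num) h
    exfalso
    have h5 : r ∣ 2 ^ 2 := by simpa using h
    have := (Nat.prime_dvd_prime_iff_eq hr Nat.prime_two).mp (hr.dvd_of_dvd_pow h5)
    omega
  · exact h

theorem nine_of_four {N : ℕ} (h : 9 ∣ 4 * N) : 9 ∣ N :=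
  Nat.Coprime.dvd_of_dvd_mul_left (by norm_num) h

/-- **the plus killer** -/
theorem Shape.kill_plus {N Q : ℕ} (h : Shape N) (hQ : 2 ≤ Q)
    (hd : Q ^ 2 * (Q ^ 2 - 1) ^ 2 * (Q ^ 2 + Q + 1) ∣ 4 * N) : False := by
  obtain ⟨r, hr, h7, hr1⟩ := exists_plus hQ
  have h1 : r ∣ N := dvd_of_four hr h7 ((hr1.trans (Dvd.intro_left _ rfl)).trans hd)
  have h2 : 9 ∣ N := nine_of_four (((nine_dvd (by omega)).trans (Dvd.intro _ rfl)).trans hd)
  exact h.c2 hr h7 h1 h2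

/-- **the minus killer** -/
theorem Shape.kill_minus {N Q : ℕ} (h : Shape N) (hQ : 3 ≤ Q)
    (hd : Q ^ 2 * (Q ^ 2 - 1) ^ 2 * (Q ^ 2 - Q + 1) ∣ 4 * N) : False := by
  obtain ⟨r, hr, h7, hr1⟩ := exists_minus hQ
  have h1 : r ∣ N := dvd_of_four hr h7 ((hr1.trans (Dvd.intro_left _ rfl)).trans hd)
  have h2 : 9 ∣ N := nine_of_four (((nine_dvd (by omega)).trans (Dvd.intro _ rfl)).trans hd)
  exact h.c2 hr h7 h1 h2

/-! ### polynomial divisibilities -/

theorem pow_four {Q : ℕ} : (Q ^ 2 - 1) * (Q ^ 2 + 1) = Q ^ 4 - 1 := by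
  rw [show Q ^ 4 - 1 = (Q ^ 2) ^ 2 - 1 ^ 2 by ring_nf, Nat.sq_sub_sq]
  ring

theorem pow_three {Q : ℕ} (hQ : 1 ≤ Q) : (Q - 1) * (Q ^ 2 + Q + 1) = Q ^ 3 - 1 := by
  obtain ⟨P, rfl⟩ : ∃ P, Q = P + 1 := ⟨Q - 1, by omega⟩
  have : (P + 1) ^ 3 = P * ((P + 1) ^ 2 + (P + 1) + 1) + 1 := by ring
  rw [this, Nat.add_sub_cancel, Nat.add_sub_cancel]

theorem pow_three_add {Q : ℕ} (hQ : 1 ≤ Q) : (Q + 1) * (Q ^ 2 - Q + 1) = Q ^ 3 + 1 := by
  obtain ⟨P, rfl⟩ : ∃ P, Q = P + 1 := ⟨Q - 1, by omega⟩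
  have h1 : (P + 1) ^ 2 - (P + 1) + 1 = P ^ 2 + P + 1 := by
    have : (P + 1) ^ 2 = P ^ 2 + P + (P + 1) := by ring
    omega
  rw [h1]
  ring

theorem pow_six {Q : ℕ} (hQ : 1 ≤ Q) : (Q ^ 2 - 1) * (Q ^ 2 + Q + 1) * (Q ^ 2 - Q + 1) = Q ^ 6 - 1 := by
  have h1 : Q ^ 6 - 1 = (Q ^ 3 + 1) * (Q ^ 3 - 1) := by
    rw [show Q ^ 6 - 1 = (Q ^ 3) ^ 2 - 1 ^ 2 by ring_nf, Nat.sq_sub_sq]
  have h2 : Q ^ 2 - 1 = (Q + 1) * (Q - 1) := by
    rw [show Q ^ 2 - 1 = Q ^ 2 - 1 ^ 2 by ring_nf, Nat.sq_sub_sq]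
  rw [h1, ← pow_three hQ, ← pow_three_add hQ, h2]
  ring

theorem dvd246 {Q : ℕ} (hQ : 1 ≤ Q) : (Q ^ 2 - 1) ^ 2 * (Q ^ 2 + Q + 1) ∣ (Q ^ 2 - 1) * (Q ^ 6 - 1) := by
  rw [← pow_six hQ]
  exact ⟨Q ^ 2 - Q + 1, by ring⟩

theorem dvd234 {Q : ℕ} (hQ : 1 ≤ Q) :
    (Q ^ 2 - 1) ^ 2 * (Q ^ 2 + Q + 1) ∣ (Q ^ 2 - 1) * (Q ^ 3 - 1) * (Q ^ 4 - 1) := by
  rw [← pow_three hQ, ← pow_four]
  exact ⟨(Q - 1) * (Q ^ 2 + 1), by ring⟩

theorem dvd234m {Q : ℕ} (hQ : 1 ≤ Q) :
    (Q ^ 2 - 1) ^ 2 * (Q ^ 2 - Q + 1) ∣ (Q ^ 2 - 1) * (Q ^ 3 + 1) * (Q ^ 4 - 1) := by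
  rw [← pow_three_add hQ, ← pow_four]
  exact ⟨(Q + 1) * (Q ^ 2 + 1), by ring⟩

theorem Shape.kill26 {N Q a : ℕ} (h : Shape N) (hQ : 2 ≤ Q) (ha : 2 ≤ a)
    (hd : Q ^ a * ((Q ^ 2 - 1) * (Q ^ 6 - 1)) ∣ 4 * N) : False := by
  refine h.kill_plus hQ (Dvd.dvd.trans ?_ hd)
  rw [mul_assoc]
  exact mul_dvd_mul (pow_dvd_pow Q ha) (dvd246 (by omega))

/-! ### primitive primes -/

theorem exists_ppd {a n : ℕ} (ha : 2 ≤ a) (hn : 3 ≤ n) (h6 : ¬ (a = 2 ∧ n = 6)) :
    ∃ r : ℕ, r.Prime ∧ (∀ m, r ∣ a ^ m - 1 ↔ n ∣ m) ∧ n < r := by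
  obtain ⟨r, hr, h1, h2, h3⟩ := Cfsg.Agent.Lib.Zsigmondy.exists_primitive ha (by omega) (by omega) h6
  refine ⟨r, hr, h1, ?_⟩
  have := Nat.le_of_dvd (by have := hr.two_le; omega) h2
  have := hr.two_le
  omega

/-! ### `PSL₂(Q)` -/

theorem div_fifteen : ∀ x : ℕ, x ≤ 15 → x ∣ 15 → x = 1 ∨ x = 3 ∨ x = 5 ∨ x = 15 := by
  decide

/-- two consecutive numbers with product `2 ^ k * 15` -/
theorem consecutive {x k : ℕ} (h : x * (x + 1) = 2 ^ k * 15) : x = 5 ∨ x = 15 := by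
  have hcop : Nat.Coprime x (x + 1) := by simp
  rcases Nat.even_or_odd x with he | ho
  · -- `x + 1` is odd
    have hodd : Nat.Coprime (x + 1) (2 ^ k) := by
      apply Nat.Coprime.pow_right
      rw [Nat.coprime_two_right]
      exact he.add_one
    have hd : x + 1 ∣ 15 := hodd.dvd_of_dvd_mul_left (h ▸ Dvd.intro_left _ rfl)
    have hle := Nat.le_of_dvd (by norm_num) hd
    exfalso
    have hx : x + 1 = 1 ∨ x + 1 = 3 ∨ x + 1 = 5 ∨ x + 1 = 15 := div_fifteen (x + 1) hle hd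
    have hk : 0 < 2 ^ k := by positivity
    rcases hx with hx | hx | hx | hx
    · have : x = 0 := by omega
      subst this
      omega
    · have : x = 2 := by omega
      subst this
      omega
    · have : x = 4 := by omega
      subst this
      omega
    · have : x = 14 := by omega
      subst this
      have : 2 ^ k = 14 := by omega
      have h7 : 7 ∣ 2 ^ k := by omega
      have := (Nat.prime_dvd_prime_iff_eq (by norm_num : Nat.Prime 7) Nat.prime_two).mp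
        ((by norm_num : Nat.Prime 7).dvd_of_dvd_pow h7)
      omega
  · have hodd : Nat.Coprime x (2 ^ k) := by
      apply Nat.Coprime.pow_right
      rw [Nat.coprime_two_right]
      exact ho
    have hd : x ∣ 15 := hodd.dvd_of_dvd_mul_left (h ▸ Dvd.intro _ rfl)
    have hle := Nat.le_of_dvd (by norm_num) hd
    have hk : 0 < 2 ^ k := by positivity
    have hx : x = 1 ∨ x = 3 ∨ x = 5 ∨ x = 15 := div_fifteen x hle hd
    rcases hx with hx | hx | hx | hx
    · subst hx; omega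
    · subst hx; omega
    · exact Or.inl hx
    · exact Or.inr hx

/-- the order of `PSL₂(Q)` -/
theorem psl_two {N p f : ℕ} (hp : p.Prime) (hf : 1 ≤ f) (h4 : 4 ≤ p ^ f) (h : Shape N)
    (hN : Nat.gcd 2 (p ^ f - 1) * N = p ^ f * ((p ^ f) ^ 2 - 1)) :
    p ^ f = 4 ∨ p ^ f = 5 ∨ p ^ f = 9 ∨ p ^ f = 11 ∨ p ^ f = 16 ∨ p ^ f = 31 := by
  have hpow : (p ^ f) ^ 2 = p ^ (2 * f) := by rw [← pow_mul, mul_comm]
  have hdvd : ∀ r, r.Prime → 7 ≤ r → r ∣ p ^ f * ((p ^ f) ^ 2 - 1) → r ∣ N := by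
    intro r hr h7 hd
    rw [← hN] at hd
    apply dvd_of_four hr h7
    refine hd.trans ?_
    exact Nat.mul_dvd_mul_right ((Nat.gcd_dvd_left 2 _).trans (by norm_num)) N
  by_cases hp7 : 7 ≤ p
  · have hpN : p ∣ N := hdvd p hp hp7 (Dvd.dvd.mul_right (dvd_pow_self p (by omega)) _)
    obtain ⟨a, b, rfl⟩ := h.eq_of_prime hp hp7 hpN
    have hodd : Odd p := hp.odd_of_ne_two (by omega)
    have hQodd : Odd (p ^ f) := hodd.pow
    have hg : Nat.gcd 2 (p ^ f - 1) = 2 := by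
      apply Nat.gcd_eq_left
      have := Nat.Odd.sub_odd hQodd odd_one
      exact this.two_dvd
    rw [hg] at hN
    have hc1 : Nat.Coprime ((p ^ f) ^ 2 - 1) (p ^ b) := by
      apply Nat.Coprime.pow_right
      have h1 : 1 ≤ (p ^ f) ^ 2 := Nat.one_le_pow _ _ (by omega)
      have h2 : Nat.Coprime ((p ^ f) ^ 2 - 1) ((p ^ f) ^ 2) := by
        rw [Nat.coprime_self_sub_left h1]
        exact Nat.coprime_one_left _
      rw [hpow] at h2 ⊢
      exact Nat.Coprime.coprime_dvd_right (dvd_pow_self p (by omega)) h2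
    have hc2 : Nat.Coprime (2 ^ (a + 1) * 15) (p ^ f) := by
      apply Nat.Coprime.pow_right
      rw [Nat.coprime_comm, Nat.Prime.coprime_iff_not_dvd hp]
      intro hd
      rw [hp.dvd_mul] at hd
      rcases hd with hd | hd
      · have := (Nat.prime_dvd_prime_iff_eq hp Nat.prime_two).mp (hp.dvd_of_dvd_pow hd)
        omega
      · have h15 : p ∣ 3 * 5 := hd
        rw [hp.dvd_mul] at h15
        rcases h15 with h15 | h15
        · have := (Nat.prime_dvd_prime_iff_eq hp Nat.prime_three).mp h15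
          omega
        · have := (Nat.prime_dvd_prime_iff_eq hp Nat.prime_five).mp h15
          omega
    have hN' : (2 ^ (a + 1) * 15) * p ^ b = p ^ f * ((p ^ f) ^ 2 - 1) := by
      rw [← hN]; ring
    have hd1 : (p ^ f) ^ 2 - 1 ∣ 2 ^ (a + 1) * 15 := by
      apply hc1.dvd_of_dvd_mul_right
      rw [hN']
      exact Dvd.intro_left _ rfl
    have hd2 : 2 ^ (a + 1) * 15 ∣ (p ^ f) ^ 2 - 1 := by
      apply hc2.dvd_of_dvd_mul_left
      rw [← hN']
      exact Dvd.intro _ rfl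
    have heq := Nat.dvd_antisymm hd1 hd2
    obtain ⟨x, hx⟩ := hQodd
    rw [hx] at heq
    have h3 : 4 * (x * (x + 1)) = 2 ^ (a + 1) * 15 := by
      rw [← heq]
      have : (2 * x + 1) ^ 2 = 4 * (x * (x + 1)) + 1 := by ring
      rw [this, Nat.add_sub_cancel]
    have ha : 1 ≤ a := by
      rcases Nat.eq_zero_or_pos a with h0 | h0
      · subst h0
        norm_num at h3
        omega
      · exact h0
    obtain ⟨k, rfl⟩ : ∃ k, a = k + 1 := ⟨a - 1, by omega⟩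
    have h5 : x * (x + 1) = 2 ^ k * 15 := by
      have : 4 * (x * (x + 1)) = 4 * (2 ^ k * 15) := by rw [h3]; ring
      omega
    rcases consecutive h5 with h6 | h6
    · rw [hx, h6]; omega
    · rw [hx, h6]; omega
  · have hp235 : p = 2 ∨ p = 3 ∨ p = 5 := by
      by_contra hcon
      push Not at hcon
      exact hp7 (prime_seven hp hcon.1 hcon.2.1 hcon.2.2)
    rcases hp235 with rfl | rfl | rfl
    · -- `p = 2`
      have hg : Nat.gcd 2 (2 ^ f - 1) = 1 := by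
        have h1 : Odd (2 ^ f - 1) := by
          have h2 : Even (2 ^ f) := (even_two).pow_of_ne_zero (by omega)
          exact Nat.Even.sub_odd (by omega) h2 odd_one
        exact (Nat.coprime_two_left).mpr h1
      rw [hg, one_mul] at hN
      by_cases hf4 : f ≤ 4
      · have hf2 : 2 ≤ f := by
          by_contra hh
          have : f = 1 := by omega
          subst this
          norm_num at h4
        interval_cases f
        · norm_num
        · -- `Q = 8`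
          exfalso
          norm_num at hN
          have := h.five
          rw [hN] at this
          omega
        · norm_num
      · exfalso
        -- `5 ∣ N` so that `f` is even
        have h5 : 5 ∣ 2 ^ f * ((2 ^ f) ^ 2 - 1) := hN ▸ h.five
        obtain ⟨r, hr, hr1, hr2⟩ := exists_ppd (a := 2) (n := 2 * f) le_rfl (by omega) (by omega)
        have hrN : r ∣ N := by
          rw [hN, hpow]
          exact Dvd.dvd.mul_left ((hr1 _).mpr dvd_rfl) _
        rcases Nat.even_or_odd f with he | ho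
        · obtain ⟨m, hm⟩ := he
          -- the primitive prime of `2 ^ f - 1`
          by_cases h6 : f = 6
          · subst h6
            have h7 : 7 ∣ N := by rw [hN]; norm_num
            have h9 : 9 ∣ N := by rw [hN]; norm_num
            exact h.c2 (by norm_num : Nat.Prime 7) le_rfl h7 h9
          · obtain ⟨s, hs, hs1, hs2⟩ := exists_ppd (a := 2) (n := f) le_rfl (by omega) (by omega)
            have hsN : s ∣ N := by
              rw [hN, hpow]
              exact Dvd.dvd.mul_left ((hs1 _).mpr (Dvd.intro_left _ rfl)) _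
            have hrs : r ≠ s := by
              rintro rfl
              have h8 := (hr1 f).mp ((hs1 f).mpr dvd_rfl)
              have := Nat.le_of_dvd (by omega) h8
              omega
            exact h.c1 hr hs (by omega) (by omega) hrs hrN hsN
        · -- `f` odd: `5` does not divide
          rw [Nat.prime_five.dvd_mul] at h5
          rcases h5 with h5 | h5
          · have := (Nat.prime_dvd_prime_iff_eq Nat.prime_five Nat.prime_two).mp (Nat.prime_five.dvd_of_dvd_pow h5)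
            omega
          · obtain ⟨m, rfl⟩ := ho
            have h8 : (2 ^ (2 * m + 1)) ^ 2 = 4 * 16 ^ m := by
              rw [← pow_mul, show (2 * m + 1) * 2 = 4 * m + 2 by ring, pow_add, pow_mul]
              norm_num
              ring
            rw [h8] at h5
            have h9 : 16 ^ m % 5 = 1 := by
              rw [Nat.pow_mod]
              simp
            omega
    · -- `p = 3`
      by_cases hf2 : f ≤ 2
      · interval_cases f
        · norm_num at h4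
        · norm_num
      · exfalso
        have h9 : 9 ∣ N := by
          have h1 : 9 ∣ Nat.gcd 2 (3 ^ f - 1) * N := by
            rw [hN]
            refine Dvd.dvd.mul_right ?_ _
            exact (pow_dvd_pow 3 (by omega : 2 ≤ f))
          have h2 : 9 ∣ 4 * N := h1.trans (Nat.mul_dvd_mul_right ((Nat.gcd_dvd_left 2 _).trans (by norm_num)) N)
          exact nine_of_four h2
        obtain ⟨r, hr, hr1, hr2⟩ := exists_ppd (a := 3) (n := 2 * f) (by norm_num) (by omega) (by omega)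
        refine h.c2 hr (by omega) (hdvd r hr (by omega) ?_) h9
        rw [hpow]
        exact Dvd.dvd.mul_left ((hr1 _).mpr dvd_rfl) _
    · -- `p = 5`
      by_cases hf2 : f ≤ 1
      · interval_cases f
        norm_num
      · exfalso
        have h25 : 25 ∣ N := by
          have h1 : 25 ∣ Nat.gcd 2 (5 ^ f - 1) * N := by
            rw [hN]
            refine Dvd.dvd.mul_right ?_ _
            exact (pow_dvd_pow 5 (by omega : 2 ≤ f))
          have h2 : 25 ∣ 4 * N := h1.trans (Nat.mul_dvd_mul_right ((Nat.gcd_dvd_left 2 _).trans (by norm_num)) N)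
          exact Nat.Coprime.dvd_of_dvd_mul_left (by norm_num) h2
        obtain ⟨r, hr, hr1, hr2⟩ := exists_ppd (a := 5) (n := 2 * f) (by norm_num) (by omega) (by omega)
        have h7 : 7 ≤ r := by
          refine prime_seven hr (by omega) (by omega) ?_
          rintro rfl
          have := (hr1 (2 * f)).mpr dvd_rfl
          have h8 : 5 ∣ 5 ^ (2 * f) := dvd_pow_self 5 (by omega)
          have h9 : 1 ≤ 5 ^ (2 * f) := Nat.one_le_pow _ _ (by norm_num)
          omega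
        refine h.c3 hr h7 (hdvd r hr h7 ?_) h25
        rw [hpow]
        exact Dvd.dvd.mul_left ((hr1 _).mpr dvd_rfl) _

/-- the order of `PSp₄(Q)` -/
theorem psp_four {N p f : ℕ} (hp : p.Prime) (hf : 1 ≤ f) (h3 : 3 ≤ p ^ f) (h : Shape N)
    (hN : Nat.gcd 2 (p ^ f - 1) * N = (p ^ f) ^ 4 * (((p ^ f) ^ 2 - 1) * ((p ^ f) ^ 4 - 1))) : p ^ f = 3 := by
  have hpow : (p ^ f) ^ 4 = p ^ (4 * f) := by rw [← pow_mul, mul_comm]
  have h4N : Nat.gcd 2 (p ^ f - 1) * N ∣ 4 * N :=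
    Nat.mul_dvd_mul_right ((Nat.gcd_dvd_left 2 _).trans (by norm_num)) N
  have h9 : 9 ∣ N := by
    apply nine_of_four
    refine Dvd.dvd.trans ?_ h4N
    rw [hN, ← pow_four]
    refine (nine_dvd (Q := p ^ f) (by omega)).trans ?_
    exact ⟨(p ^ f) ^ 2 * ((p ^ f) ^ 2 + 1), by ring⟩
  have hno : ∀ r, r.Prime → 7 ≤ r → ¬ r ∣ (p ^ f) ^ 4 * (((p ^ f) ^ 2 - 1) * ((p ^ f) ^ 4 - 1)) := by
    intro r hr h7 hd
    rw [← hN] at hd
    exact h.c2 hr h7 (dvd_of_four hr h7 (hd.trans h4N)) h9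
  have hp7 : ¬ 7 ≤ p := by
    intro h7
    apply hno p hp h7
    refine Dvd.dvd.mul_right ?_ _
    rw [hpow]
    exact dvd_pow_self p (by omega)
  have hp5 : p ≠ 5 := by
    rintro rfl
    apply h.c4 h9
    have h1 : 25 ∣ 4 * N := by
      refine Dvd.dvd.trans ?_ h4N
      rw [hN, hpow]
      exact Dvd.dvd.mul_right (pow_dvd_pow 5 (by omega : 2 ≤ 4 * f)) _
    exact Nat.Coprime.dvd_of_dvd_mul_left (by norm_num) h1
  have hp23 : p = 2 ∨ p = 3 := by
    by_contra hcon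
    push Not at hcon
    exact hp7 (prime_seven hp hcon.1 hcon.2 hp5)
  by_cases hf1 : f = 1
  · subst hf1
    rcases hp23 with rfl | rfl
    · norm_num at h3
    · norm_num
  · exfalso
    obtain ⟨r, hr, hr1, hr2⟩ := exists_ppd (a := p) (n := 4 * f) hp.two_le (by omega) (by omega)
    apply hno r hr (by omega)
    rw [hpow]
    refine Dvd.dvd.mul_left (Dvd.dvd.mul_left ?_ _) _
    exact (hr1 _).mpr dvd_rfl

/-- the order of `PSL₃(Q)` -/
theorem psl_three {N p f : ℕ} (hp : p.Prime) (hf : 1 ≤ f) (h : Shape N)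
    (hN : Nat.gcd 3 (p ^ f - 1) * N = (p ^ f) ^ 3 * (((p ^ f) ^ 2 - 1) * ((p ^ f) ^ 3 - 1))) : False := by
  have hQ : 2 ≤ p ^ f := le_trans hp.two_le (Nat.le_self_pow (by omega) p)
  set Q := p ^ f with hQdef
  obtain ⟨r, hr, h7, hr1⟩ := exists_plus hQ
  have hdvd : ∀ s, s.Prime → 7 ≤ s → s ∣ Q ^ 3 * ((Q ^ 2 - 1) * (Q ^ 3 - 1)) → s ∣ N := by
    intro s hs hs7 hd
    rw [← hN, hs.dvd_mul] at hd
    rcases hd with hd | hd
    · exfalso
      have h1 := (Nat.prime_dvd_prime_iff_eq hs Nat.prime_three).mp (hd.trans (Nat.gcd_dvd_left 3 _))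
      omega
    · exact hd
  have hrN : r ∣ N := by
    apply hdvd r hr h7
    rw [← pow_three (by omega)]
    exact hr1.trans ⟨Q ^ 3 * ((Q ^ 2 - 1) * (Q - 1)), by ring⟩
  have h9 : ¬ 9 ∣ N := fun h9 => h.c2 hr h7 hrN h9
  have h25 : ¬ 25 ∣ N := fun h25 => h.c3 hr h7 hrN h25
  have h2 : Q ^ 2 - 1 = (Q + 1) * (Q - 1) := by
    rw [show Q ^ 2 - 1 = Q ^ 2 - 1 ^ 2 by ring_nf, Nat.sq_sub_sq]
  -- `Q ≡ 2 mod 3`
  have hQ3 : Q % 3 = 2 := by
    have hlt : Q % 3 < 3 := Nat.mod_lt _ (by norm_num)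
    by_contra hcon
    have : Q % 3 = 0 ∨ Q % 3 = 1 := by omega
    rcases this with h0 | h0
    · -- `3 ∣ Q`
      apply h9
      have h3Q : 3 ∣ Q := Nat.dvd_of_mod_eq_zero h0
      have hg : Nat.gcd 3 (Q - 1) = 1 := by
        rw [← Nat.coprime_iff_gcd_eq_one, Nat.Prime.coprime_iff_not_dvd Nat.prime_three]
        omega
      rw [hg, one_mul] at hN
      rw [hN]
      obtain ⟨k, hk⟩ := h3Q
      rw [hk]
      exact ⟨3 * k ^ 3 * (((3 * k) ^ 2 - 1) * ((3 * k) ^ 3 - 1)), by ring⟩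
    · -- `3 ∣ Q - 1`
      apply h9
      have h3Q : 3 ∣ Q - 1 := by omega
      have hg : Nat.gcd 3 (Q - 1) = 3 := Nat.gcd_eq_left h3Q
      rw [hg] at hN
      have h4 : 3 ∣ Q ^ 2 + Q + 1 := by
        have : (Q ^ 2 + Q + 1) % 3 = 0 := by
          rw [Nat.add_mod, Nat.add_mod (Q ^ 2), Nat.pow_mod, h0]
        exact Nat.dvd_of_mod_eq_zero this
      obtain ⟨k, hk⟩ := h3Q
      obtain ⟨l, hl⟩ := h4
      rw [← pow_three (by omega), h2, hk, hl] at hN
      have h5 : N = 9 * (Q ^ 3 * ((Q + 1) * k * (k * l))) := by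
        have : 3 * N = 3 * (9 * (Q ^ 3 * ((Q + 1) * k * (k * l)))) := by rw [hN]; ring
        omega
      exact ⟨_, h5⟩
  have hg : Nat.gcd 3 (Q - 1) = 1 := by
    rw [← Nat.coprime_iff_gcd_eq_one, Nat.Prime.coprime_iff_not_dvd Nat.prime_three]
    omega
  rw [hg, one_mul] at hN
  have hp5 : p ≠ 5 := by
    intro hp5
    apply h25
    rw [hN, hQdef, hp5, ← pow_mul]
    exact Dvd.dvd.mul_right (pow_dvd_pow 5 (by omega : 2 ≤ f * 3)) _
  have hp3 : p ≠ 3 := by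
    intro hp3
    have : 3 ∣ Q := by rw [hQdef, hp3]; exact dvd_pow_self 3 (by omega)
    omega
  have hp2 : p = 2 := by
    by_contra hp2
    have hp7 := prime_seven hp hp2 hp3 hp5
    have hpN : p ∣ N := by
      rw [hN, hQdef, ← pow_mul]
      exact Dvd.dvd.mul_right (dvd_pow_self p (by omega)) _
    refine h.c1 hp hr hp7 h7 ?_ hpN hrN
    rintro rfl
    have h1 : p ∣ Q := by rw [hQdef]; exact dvd_pow_self p (by omega)
    have h2 : p ∣ Q ^ 2 + Q := Dvd.dvd.add (Dvd.dvd.pow h1 (by norm_num)) h1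
    have h3 := (Nat.dvd_add_right h2).mp hr1
    have := Nat.le_of_dvd (by norm_num) h3
    omega
  subst hp2
  rcases Nat.even_or_odd f with he | ho
  · obtain ⟨m, hm⟩ := he
    have : Q = 4 ^ m := by rw [hQdef, hm, ← two_mul, pow_mul]; norm_num
    have h1 : 4 ^ m % 3 = 1 := by rw [Nat.pow_mod]; simp
    omega
  · obtain ⟨m, hm⟩ := ho
    have hQm : Q = 2 * 4 ^ m := by rw [hQdef, hm, pow_add, pow_mul]; norm_num; ring
    by_cases hm0 : m = 0
    · subst hm0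
      have hQ2 : Q = 2 := by rw [hQm]; norm_num
      rw [hQ2] at hN
      norm_num at hN
      have := h.five
      rw [hN] at this
      omega
    · have h4m : 4 ≤ 4 ^ m := Nat.le_self_pow hm0 4
      have h5 : ¬ 5 ∣ Q - 1 := by
        have h6 : 4 ^ m % 5 = 1 ∨ 4 ^ m % 5 = 4 := by
          rcases Nat.even_or_odd m with hm' | hm'
          · left
            obtain ⟨k, hk⟩ := hm'
            rw [hk, ← two_mul, pow_mul, Nat.pow_mod]
            simp
          · right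
            obtain ⟨k, hk⟩ := hm'
            rw [hk, pow_add, pow_mul, Nat.mul_mod, Nat.pow_mod]
            simp
        (clear * - hQm h6; omega)
      have h3 : ¬ 3 ∣ Q - 1 := by (clear * - hQ3 hQm; omega)
      have h2' : ¬ 2 ∣ Q - 1 := by (clear * - hQm h4m; omega)
      obtain ⟨s, hs, hs7, hs1⟩ := exists_seven (n := Q - 1) (by (clear * - hQm h4m; omega)) h2' h3 h5
      have hsN : s ∣ N := by
        apply hdvd s hs hs7
        rw [h2]
        exact hs1.trans ⟨Q ^ 3 * ((Q + 1) * (Q ^ 3 - 1)), by ring⟩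
      refine h.c1 hr hs h7 hs7 ?_ hrN hsN
      rintro rfl
      -- `r ∣ Q - 1` and `r ∣ Q² + Q + 1` give `r ∣ 3`
      have h8 : Q ^ 2 + Q + 1 = (Q - 1) * (Q + 2) + 3 := by
        obtain ⟨P, hP⟩ : ∃ P, Q = P + 1 := ⟨Q - 1, by (clear * - hQm h4m; omega)⟩
        rw [hP, Nat.add_sub_cancel]
        ring
      rw [h8] at hr1
      have h9' := (Nat.dvd_add_right (Dvd.dvd.mul_right hs1 (Q + 2))).mp hr1
      have := Nat.le_of_dvd (by norm_num) h9'
      omega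

/-- the order of `PSU₃(Q)` -/
theorem psu_three {N p f : ℕ} (hp : p.Prime) (hf : 1 ≤ f) (hQ : 3 ≤ p ^ f) (h : Shape N)
    (hN : Nat.gcd 3 (p ^ f + 1) * N = (p ^ f) ^ 3 * (((p ^ f) ^ 2 - 1) * ((p ^ f) ^ 3 + 1))) : False := by
  set Q := p ^ f with hQdef
  obtain ⟨r, hr, h7, hr1⟩ := exists_minus hQ
  have hdvd : ∀ s, s.Prime → 7 ≤ s → s ∣ Q ^ 3 * ((Q ^ 2 - 1) * (Q ^ 3 + 1)) → s ∣ N := by
    intro s hs hs7 hd
    rw [← hN, hs.dvd_mul] at hd
    rcases hd with hd | hd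
    · exfalso
      have h1 := (Nat.prime_dvd_prime_iff_eq hs Nat.prime_three).mp (hd.trans (Nat.gcd_dvd_left 3 _))
      omega
    · exact hd
  have hrN : r ∣ N := by
    apply hdvd r hr h7
    rw [← pow_three_add (by omega)]
    exact hr1.trans ⟨Q ^ 3 * ((Q ^ 2 - 1) * (Q + 1)), by ring⟩
  have h9 : ¬ 9 ∣ N := fun h9 => h.c2 hr h7 hrN h9
  have h25 : ¬ 25 ∣ N := fun h25 => h.c3 hr h7 hrN h25
  have h2 : Q ^ 2 - 1 = (Q + 1) * (Q - 1) := by
    rw [show Q ^ 2 - 1 = Q ^ 2 - 1 ^ 2 by ring_nf, Nat.sq_sub_sq]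
  -- `Q ≡ 1 mod 3`
  have hQ3 : Q % 3 = 1 := by
    have hlt : Q % 3 < 3 := Nat.mod_lt _ (by norm_num)
    by_contra hcon
    have : Q % 3 = 0 ∨ Q % 3 = 2 := by omega
    rcases this with h0 | h0
    · -- `3 ∣ Q`
      apply h9
      have h3Q : 3 ∣ Q := Nat.dvd_of_mod_eq_zero h0
      have hg : Nat.gcd 3 (Q + 1) = 1 := by
        rw [← Nat.coprime_iff_gcd_eq_one, Nat.Prime.coprime_iff_not_dvd Nat.prime_three]
        omega
      rw [hg, one_mul] at hN
      rw [hN]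
      obtain ⟨k, hk⟩ := h3Q
      rw [hk]
      exact ⟨3 * k ^ 3 * (((3 * k) ^ 2 - 1) * ((3 * k) ^ 3 + 1)), by ring⟩
    · -- `3 ∣ Q + 1`
      apply h9
      have h3Q : 3 ∣ Q + 1 := by omega
      have hg : Nat.gcd 3 (Q + 1) = 3 := Nat.gcd_eq_left h3Q
      rw [hg] at hN
      have h4 : 3 ∣ Q ^ 2 - Q + 1 := by
        obtain ⟨P, hP⟩ : ∃ P, Q = P + 1 := ⟨Q - 1, by (clear * - h0; omega)⟩
        have h1 : Q ^ 2 - Q + 1 = P ^ 2 + P + 1 := by
          have : (P + 1) ^ 2 = P ^ 2 + P + (P + 1) := by ring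
          rw [hP]
          (clear * - this; omega)
        have h0' : P % 3 = 1 := by (clear * - h0 hP; omega)
        rw [h1]
        have : (P ^ 2 + P + 1) % 3 = 0 := by
          rw [Nat.add_mod, Nat.add_mod (P ^ 2), Nat.pow_mod, h0']
        exact Nat.dvd_of_mod_eq_zero this
      obtain ⟨k, hk⟩ := h3Q
      obtain ⟨l, hl⟩ := h4
      rw [← pow_three_add (by omega), h2, hk, hl] at hN
      have h5 : N = 9 * (Q ^ 3 * (k * (Q - 1) * (k * l))) := by
        have : 3 * N = 3 * (9 * (Q ^ 3 * (k * (Q - 1) * (k * l)))) := by rw [hN]; ring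
        omega
      exact ⟨_, h5⟩
  have hg : Nat.gcd 3 (Q + 1) = 1 := by
    rw [← Nat.coprime_iff_gcd_eq_one, Nat.Prime.coprime_iff_not_dvd Nat.prime_three]
    omega
  rw [hg, one_mul] at hN
  have hp5 : p ≠ 5 := by
    intro hp5
    apply h25
    rw [hN, hQdef, hp5, ← pow_mul]
    exact Dvd.dvd.mul_right (pow_dvd_pow 5 (by omega : 2 ≤ f * 3)) _
  have hp3 : p ≠ 3 := by
    intro hp3
    have : 3 ∣ Q := by rw [hQdef, hp3]; exact dvd_pow_self 3 (by omega)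
    omega
  have h8 : Q ^ 2 - Q + 1 + 2 * Q = Q * Q + (Q + 1) := by
    have h10 : Q ≤ Q ^ 2 := Nat.le_self_pow (by norm_num) Q
    have h11 : Q ^ 2 = Q * Q := sq Q
    (clear * - h10 h11; omega)
  have hp2 : p = 2 := by
    by_contra hp2
    have hp7 := prime_seven hp hp2 hp3 hp5
    have hpN : p ∣ N := by
      rw [hN, hQdef, ← pow_mul]
      exact Dvd.dvd.mul_right (dvd_pow_self p (by omega)) _
    refine h.c1 hp hr hp7 h7 ?_ hpN hrN
    rintro rfl
    have h1 : p ∣ Q := by rw [hQdef]; exact dvd_pow_self p (by omega)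
    have h2 : p ∣ Q * Q + (Q + 1) := h8 ▸ Dvd.dvd.add hr1 (Dvd.dvd.mul_left h1 2)
    have h3 : p ∣ Q + 1 := (Nat.dvd_add_right (Dvd.dvd.mul_left h1 Q)).mp h2
    have h4 : p ∣ 1 := (Nat.dvd_add_right h1).mp h3
    have := Nat.le_of_dvd (by norm_num) h4
    omega
  subst hp2
  -- `f` is even
  have hfe : Even f := by
    rcases Nat.even_or_odd f with he | ho
    · exact he
    · exfalso
      obtain ⟨m, hm⟩ := ho
      have hQm : Q = 2 * 4 ^ m := by rw [hQdef, hm, pow_add, pow_mul]; norm_num; ring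
      have h1 : 4 ^ m % 3 = 1 := by rw [Nat.pow_mod]; simp
      omega
  obtain ⟨m, hm⟩ := hfe
  have hQm : Q = 4 ^ m := by rw [hQdef, hm, ← two_mul, pow_mul]; norm_num
  rcases Nat.even_or_odd m with hm' | hm'
  · -- `Q = 16 ^ k`
    obtain ⟨k, hk⟩ := hm'
    have hQk : Q = 16 ^ k := by rw [hQm, hk, ← two_mul, pow_mul]; norm_num
    have h16 : 16 ^ k % 5 = 1 := by rw [Nat.pow_mod]; simp
    have h16' : 16 ^ k % 3 = 1 := by rw [Nat.pow_mod]; simp
    have hk0 : k ≠ 0 := by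
      rintro rfl
      rw [hQk] at hQ
      norm_num at hQ
    have h16'' : 2 ∣ 16 ^ k := Dvd.dvd.trans (by norm_num : 2 ∣ 16) (dvd_pow_self 16 hk0)
    obtain ⟨s, hs, hs7, hs1⟩ := exists_seven (n := Q + 1) (by (clear * - hQ; omega)) (by (clear * - hQk h16''; omega)) (by (clear * - hQ3; omega)) (by (clear * - hQk h16; omega))
    have hsN : s ∣ N := by
      apply hdvd s hs hs7
      rw [h2]
      exact hs1.trans ⟨Q ^ 3 * ((Q - 1) * (Q ^ 3 + 1)), by ring⟩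
    refine h.c1 hr hs h7 hs7 ?_ hrN hsN
    rintro rfl
    -- `r ∣ Q + 1` and `r ∣ Q² - Q + 1` give `r ∣ 3`
    have h10 : Q ^ 2 - Q + 1 + 2 * (Q + 1) = (Q + 1) * Q + 3 := by
      have h10 : Q ≤ Q ^ 2 := Nat.le_self_pow (by norm_num) Q
      have h11 : (Q + 1) * Q = Q ^ 2 + Q := by ring
      (clear * - h10 h11; omega)
    have h12 : r ∣ (Q + 1) * Q + 3 := h10 ▸ Dvd.dvd.add hr1 (Dvd.dvd.mul_left hs1 2)
    have h13 : r ∣ 3 := (Nat.dvd_add_right (Dvd.dvd.mul_right hs1 Q)).mp h12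
    have := Nat.le_of_dvd (by norm_num) h13
    omega
  · -- `25 ∣ N`
    obtain ⟨k, hk⟩ := hm'
    have hQk : Q = 4 * 16 ^ k := by rw [hQm, hk, pow_add, pow_mul]; norm_num; ring
    have h16 : 16 ^ k % 5 = 1 := by rw [Nat.pow_mod]; simp
    have h5 : 5 ∣ Q + 1 := by (clear * - hQk h16; omega)
    apply h25
    rw [hN, h2, ← pow_three_add (by (clear * - hQk h16; omega))]
    obtain ⟨l, hl⟩ := h5
    rw [hl]
    exact ⟨Q ^ 3 * (l * (Q - 1) * (l * (Q ^ 2 - Q + 1))), by ring⟩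

end Cfsg.Agent.H326
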